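import Cfsg.Agent.H39.HN.T420.Data

/-!
Steps of a derivation (generated data).
-/

set_option autoImplicit false
set_option maxRecDepth 100000
set_option linter.all false
set_option Elab.async false

namespace H39
namespace HN
namespace T420

open H93.CosetI

noncomputable section

def st0 : List Step := [(7,[],[]),(0,[],[]),(2,[2],[]),(0,[],[]),(0,[],[]),(0,[],[]),(0,[],[]),(4,[1,2,6,8,10,12],[5]),(0,[],[]),(0,[],[]),(0,[],[]),(0,[],[]),(0,[],[]),(5,[1,1,2,6,16,18,20,22,24],[5,15]),(0,[],[]),(0,[],[]),(0,[],[]),(0,[],[]),(0,[],[]),(0,[],[]),(6,[0,2,6,8,28,30,32,34,36,38],[5,15,13]),(2,[8],[]),(4,[7,4,0,2,15],[43,10]),(2,[18],[]),(5,[17,7,4,0,0,2,15,27],[47,20,22]),(2,[30],[]),(2,[34],[]),(2,[38],[]),(0,[],[]),(0,[],[]),(0,[],[]),(0,[],[]),(0,[],[]),(0,[],[]),(0,[],[]),(3,[6,16,56,58,60,62,64,66,68],[15,27]),(0,[],[]),(5,[7,15,44,11,28,30,72],[43,10,41,39]),(0,[],[]),(0,[],[]),(0,[],[]),(0,[],[]),(0,[],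[]),(0,[],[]),(6,[16,18,76,78,80,82,84,86],[43,10,45,27,25]),(4,[41,54,75],[45,27,25,23]),(4,[27,48,23],[13,41,39,75]),(2,[78],[]),(2,[82],[]),(2,[86],[]),(0,[],[]),(0,[],[]),(0,[],[]),(0,[],[]),(0,[],[]),(0,[],[]),(0,[],[]),(0,[],[]),(3,[28,100,102,104,106,108,110,112,114],[10,41]),(0,[],[]),(0,[],[]),(0,[],[]),(0,[],[]),(0,[],[]),(0,[],[]),(5,[41,117,118,120,122,124,126,128],[45,27,71]),(2,[],[131]),(2,[118],[]),(2,[124],[]),(0,[],[]),(0,[],[]),(0,[],[]),(0,[],[]),(0,[],[]),(6,[56,138,140,142,144,146],[47,20,91,74,55,117,135]),(2,[138],[]),(2,[142],[]),(2,[146],[]),(0,[],[]),(0,[],[]),(0,[],[]),(0,[],[]),(0,[],[]),(0,[],[]),(0,[],[]),(3,[76,156,158,160,162,164,166,168],[20,22,89]),(0,[],[]),(0,[],[]),(0,[],[]),(0,[],[]),(5,[22,89,98,172,174,176,178],[91,74,37,35]),(4,[89,98,172],[49,71,131,129]),(4,[71,132,129],[25,89,87,172]),(4,[37,52,181],[55,117,135,120]),(4,[117,118,120],[39,37,35,181]),(5,[74,37,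52,181,179],[93,22,89,87,172,174]),(0,[],[]),(0,[],[]),(0,[],[]),(0,[],[]),(0,[],[]),(0,[],[]),(5,[89,171,192,194,196,198,200,202],[49,71,69]),(0,[],[]),(0,[],[]),(0,[],[]),(0,[],[]),(0,[],[]),(6,[23,92,73,50,100,206,208,210,212,214],[49,71,131]),(0,[],[]),(0,[],[]),(0,[],[]),(0,[],[]),(0,[],[]),(0,[],[]),(5,[71,69,218,220,222,224,226,228],[25,89,171]),(2,[218],[205]),(1,[232],[]),(1,[235,219],[]),(1,[235,220],[]),(1,[202,238],[]),(1,[241],[]),(1,[243,222],[]),(1,[200,244],[]),(1,[247],[]),(1,[249,224],[]),(2,[206],[]),(2,[192],[231]),(1,[255],[]),(1,[257,230],[]),(1,[257,229],[]),(1,[195,260],[]),(1,[263],[]),(1,[265,227],[]),(1,[197,266],[]),(1,[269],[]),(1,[271,251],[]),(2,[210],[]),(2,[214],[]),(0,[],[]),(0,[],[]),(0,[],[]),(0,[],[]),(0,[],[]),(3,[32,181,179,278,280,282,284,286],[72,74,37]),(0,[],[]),(4,[33,50,100,206,290],[53,289]),(0,[],[]),(0,[],[]),(5,[33,72,90,21,76,78,294,296],[53,289,287]),(0,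[],[]),(0,[],[]),(0,[],[]),(0,[],[]),(0,[],[]),(0,[],[]),(6,[181,186,122,124,300,302,304,306,308,310],[53,289,293]),(4,[289],[35,33,31,100,253,290]),(5,[289,287],[35,33,72,93,21,76,95,294,296]),(2,[302],[]),(2,[306],[]),(2,[310],[]),(0,[],[]),(0,[],[]),(5,[37,289,314,291,208,210,324,326],[55,117,115]),(5,[117,115],[39,37,289,293,291,208,275,324,326]),(0,[],[]),(4,[57,18,76,78,294,332],[151]),(5,[57,17,8,28,100,206,290,313,322],[151,335]),(0,[],[]),(0,[],[]),(0,[],[]),(0,[],[]),(0,[],[]),(0,[],[]),(6,[58,338,340,342,344,346,348],[151,335,333,296,317,285]),(2,[338],[]),(0,[],[]),(0,[],[]),(4,[59,138,140,142,354,356],[353]),(0,[],[]),(0,[],[]),(0,[],[]),(0,[],[]),(5,[59,57,18,76,156,360,362,364,366],[353,359]),(0,[],[]),(0,[],[]),(0,[],[]),(0,[],[]),(0,[],[]),(0,[],[]),(0,[],[]),(0,[],[]),(0,[],[]),(6,[60,370,372,374,376,378,380,382,384,386],[353,359,357]),(2,[370],[]),(4,[77,46,56,138,335],[95,294]),(4,[14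1,150,58,338,359],[153,354]),(2,[360],[]),(5,[157,77,46,56,58,338,359,369],[397,362,364]),(2,[],[351]),(2,[342],[]),(2,[346],[]),(2,[374],[]),(2,[378],[]),(2,[382],[]),(2,[386],[]),(0,[],[]),(0,[],[]),(4,[61,338,340,342,414,416],[391]),(0,[],[]),(0,[],[]),(0,[],[]),(0,[],[]),(0,[],[]),(5,[61,59,138,140,420,422,424,426,428],[391,419]),(0,[],[]),(0,[],[]),(0,[],[]),(0,[],[]),(0,[],[]),(0,[],[]),(0,[],[]),(0,[],[]),(0,[],[]),(6,[62,432,434,436,438,440,442,444,446,448],[391,419,417]),(2,[432],[]),(0,[],[]),(0,[],[]),(4,[63,370,372,374,454,456],[453]),(0,[],[]),(0,[],[]),(0,[],[]),(0,[],[]),(0,[],[]),(5,[63,61,338,340,460,462,464,466,468],[453,459]),(0,[],[]),(0,[],[]),(0,[],[]),(0,[],[]),(0,[],[]),(0,[],[]),(0,[],[]),(0,[],[]),(0,[],[]),(6,[64,472,474,476,478,480,482,484,486,488],[453,459,457]),(2,[472],[]),(4,[341,352,60,370,419],[403,414]),(4,[373,390,62,432,459],[407,454]),(2,[422],[])]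

theorem ok0 : data.stepsOK st0 0 = true := by decide +kernel

def st1 : List Step := [(5,[421,141,150,58,60,370,419,431],[499,424,426]),(2,[436],[]),(2,[440],[]),(2,[444],[]),(2,[448],[]),(2,[462],[]),(5,[461,341,352,60,62,432,459,471],[511,464,466]),(2,[476],[]),(2,[480],[]),(2,[484],[]),(2,[488],[]),(0,[],[]),(0,[],[]),(4,[65,432,434,436,522,524],[493]),(0,[],[]),(0,[],[]),(0,[],[]),(0,[],[]),(0,[],[]),(5,[65,63,370,372,528,530,532,534,536],[493,527]),(0,[],[]),(0,[],[]),(0,[],[]),(0,[],[]),(0,[],[]),(0,[],[]),(0,[],[]),(6,[66,237,203,540,542,544,546,548,550,552],[493,527,525]),(0,[],[]),(0,[],[]),(4,[67,472,474,476,556,558],[205]),(0,[],[]),(0,[],[]),(0,[],[]),(0,[],[]),(0,[],[]),(5,[67,65,432,434,562,564,566,568,570],[205,561]),(0,[],[]),(0,[],[]),(0,[],[]),(6,[68,132,129,184,174,176,278,574,576,578],[205,561,559]),(4,[69,237,203,540],[131,217,215]),(4,[217,276,583],[133,69,205,203]),(4,[561],[236,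67,493,474,515,556]),(2,[574],[]),(4,[435,452,64,472,527],[503,522]),(2,[530],[]),(5,[529,373,390,62,64,472,527,539],[593,532,534]),(2,[544],[]),(2,[548],[]),(2,[552],[]),(2,[564],[]),(5,[563,435,452,64,66,237,561,573],[603,566,568]),(2,[578],[]),(0,[],[]),(0,[],[]),(0,[],[]),(0,[],[]),(0,[],[]),(5,[69,67,472,474,608,610,612,614,616],[131,217]),(2,[610],[]),(5,[609,475,492,66,68,132,217,619],[621,612,614]),(0,[],[]),(0,[],[]),(0,[],[]),(0,[],[]),(0,[],[]),(0,[],[]),(6,[156,360,624,626,628,630,632,634],[95,294,393,337,323]),(0,[],[]),(0,[],[]),(0,[],[]),(0,[],[]),(0,[],[]),(0,[],[]),(0,[],[]),(0,[],[]),(3,[80,638,640,642,644,646,648,650,652],[294,296]),(4,[85,96,638],[99,171,259,194]),(4,[171,192,194],[87,85,83,638]),(5,[128,217,276,583,542,544],[183,173,85,83,638,640]),(1,[661],[]),(1,[663,642],[]),(1,[547,664],[]),(1,[663,641],[]),(1,[667],[]),(1,[671,644],[]),(2,[626],[]),(2,[630],[]),(2,[634],[]),(0,[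],[]),(4,[81,94,156,360,362,680],[97]),(5,[81,294,332,334,140,142,354,389,412],[97,683]),(0,[],[]),(0,[],[]),(0,[],[]),(0,[],[]),(6,[638,656,196,198,686,688,690,692],[97,683,681,364,399]),(4,[683],[83,81,79,156,397,362]),(0,[],[]),(0,[],[]),(0,[],[]),(0,[],[]),(0,[],[]),(3,[84,172,174,698,700,702,704,706],[683,685,385]),(2,[688],[]),(2,[692],[]),(0,[],[]),(0,[],[]),(5,[85,683,696,363,624,626,714,716],[99,171,169]),(0,[],[]),(0,[],[]),(0,[],[]),(0,[],[]),(0,[],[]),(0,[],[]),(6,[172,182,127,136,720,722,724,726,728,730],[99,171,259]),(5,[171,169],[87,85,683,681,363,624,675,714,716]),(2,[722],[]),(2,[726],[]),(2,[730],[]),(0,[],[]),(0,[],[]),(0,[],[]),(0,[],[]),(0,[],[]),(0,[],[]),(6,[102,742,744,746,748,750,752],[253,290,315,287,299,655]),(2,[742],[]),(0,[],[]),(4,[103,206,208,210,324,758],[757]),(5,[103,101,30,32,181,186,121,149,154],[757,761]),(0,[],[]),(0,[],[]),(0,[],[]),(0,[],[]),(0,[],[]),(0,[],[]),(6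,[104,764,766,768,770,772,774],[757,761,759,326,331,113]),(2,[764],[]),(2,[],[777]),(4,[149,154,762],[119,115,329,327]),(2,[],[755]),(2,[746],[]),(2,[750],[]),(2,[768],[]),(2,[772],[]),(0,[],[]),(0,[],[]),(4,[105,742,744,746,794,796],[779]),(0,[],[]),(0,[],[]),(0,[],[]),(0,[],[]),(0,[],[]),(5,[105,103,206,208,800,802,804,806,808],[779,799]),(0,[],[]),(0,[],[]),(0,[],[]),(0,[],[]),(0,[],[]),(0,[],[]),(0,[],[]),(0,[],[]),(0,[],[]),(6,[106,812,814,816,818,820,822,824,826,828],[779,799,797]),(2,[812],[]),(0,[],[]),(0,[],[]),(4,[107,764,766,768,834,836],[833]),(0,[],[]),(0,[],[]),(0,[],[]),(0,[],[]),(0,[],[]),(5,[107,105,742,744,840,842,844,846,848],[833,839]),(0,[],[]),(0,[],[]),(0,[],[]),(0,[],[]),(0,[],[]),(0,[],[]),(0,[],[]),(0,[],[]),(0,[],[]),(6,[108,852,854,856,858,860,862,864,866,868],[833,839,837]),(2,[852],[]),(4,[111,852,854,856],[777,775,773]),(5,[202,561,586,557,478,480],[585,582,213,211,800]),(4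,[213,274,800,802,804],[277,619,617]),(1,[878],[]),(1,[881,805],[]),(1,[614,882],[]),(1,[881,806],[]),(1,[885],[]),(1,[889,803],[]),(4,[619,622,615],[215,213,211,800]),(5,[619],[215,213,324,783,760,744,787,794,831,829]),(4,[894,828,830,796,811],[617,886]),(4,[745,756,104,764,799],[787,794]),(5,[794,831],[747,745,761,759,325,212,277,619,894]),(4,[767,778,106,812,839],[791,834]),(4,[775,792,875],[781,111,873,854]),(2,[816],[]),(2,[824],[]),(2,[842],[]),(5,[841,745,756,104,106,812,839,851],[911,844,846]),(2,[860],[]),(2,[864],[]),(2,[868],[]),(0,[],[]),(0,[],[]),(4,[109,812,814,816,920,922],[873]),(0,[],[]),(0,[],[]),(0,[],[]),(0,[],[]),(0,[],[]),(0,[],[]),(0,[],[]),(0,[],[]),(0,[],[]),(6,[110,780,928,930,932,934,936,938,940,942],[873,925,923]),(0,[],[]),(0,[],[]),(0,[],[]),(0,[],[]),(0,[],[]),(5,[111,109,812,814,946,948,950,952,954],[777,775]),(5,[957],[773,771,834,903,838,814,907,920,945,943]),(2,[930],[]),(2,[934],[]),(2,[938],[]),(0,[],[]),(0,[],[]),(4,[113,780,928,930,966,968],[329]),(0,[],[]),(0,[],[]),(0,[],[]),(0,[],[]),(0,[],[]),(5,[113,111,852,854,972,974,976,978,980],[329,971]),(0,[],[]),(0,[],[]),(0,[],[]),(6,[114,118,120,188,179,190,698,984,986,988],[329,971,969]),(0,[],[]),(0,[],[]),(0,[],[]),(0,[],[])]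

theorem ok1 : data.stepsOK st1 250 = true := by decide +kernel

def st2 : List Step := [(0,[],[]),(5,[115,113,780,928,992,994,996,998,1000],[135,149]),(4,[145,152,420,422,424],[155,1003,1001]),(1,[1005],[]),(1,[1007,1000],[]),(1,[1007,999],[]),(1,[424,1010],[]),(1,[1013],[]),(1,[1015,997],[]),(5,[145,354,356,358,340,342,414,451,508],[155,1003]),(6,[762,782,325,274,800,891,613,620],[155,1003,1009,426,501]),(4,[1003],[147,145,143,420,499,424]),(4,[971],[331,113,777,928,961,966]),(2,[984],[]),(5,[763,145,152,420],[759,326,971,969,967,932,963]),(4,[1029,422,1016],[935,933,931,992]),(2,[974],[]),(5,[973,855,872,110,112,330,971,983],[1033,976,978]),(2,[988],[]),(0,[],[]),(0,[],[]),(0,[],[]),(0,[],[]),(3,[120,122,720,1038,1040,1042,1044],[149,1003,1019,447]),(0,[],[]),(0,[],[]),(0,[],[]),(0,[],[]),(3,[300,1048,1050,1052,1054],[126,128,217,619,894,827]),(0,[],[]),(0,[],[]),(0,[],[]),(0,[],[]),(3,[140,420,1028,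936,1058,1060,1062,1064],[335,337,309]),(0,[],[]),(0,[],[]),(0,[],[]),(0,[],[]),(6,[420,422,1016,1030,1068,1070,1072,1074],[153,354,395,369,367]),(2,[1070],[]),(2,[1074],[]),(0,[],[]),(0,[],[]),(0,[],[]),(0,[],[]),(3,[144,762,760,744,840,1082,1084,1086,1088],[354,389]),(0,[],[]),(0,[],[]),(0,[],[]),(0,[],[]),(0,[],[]),(0,[],[]),(6,[158,1092,1094,1096,1098,1100,1102],[397,362,697,685,413,1091]),(2,[1092],[]),(2,[],[1105]),(2,[1096],[]),(2,[1100],[]),(0,[],[]),(4,[159,360,624,626,714,1114],[1107]),(5,[159,157,78,80,638,656,195,733,740],[1107,1117]),(0,[],[]),(0,[],[]),(0,[],[]),(0,[],[]),(0,[],[]),(0,[],[]),(6,[160,1120,1122,1124,1126,1128,1130],[1107,1117,1115,716,735,167]),(2,[1120],[]),(0,[],[]),(0,[],[]),(4,[161,1092,1094,1096,1136,1138],[1135]),(0,[],[]),(0,[],[]),(0,[],[]),(0,[],[]),(0,[],[]),(5,[161,159,360,624,1142,1144,1146,1148,1150],[1135,1141]),(0,[],[]),(0,[],[]),(0,[],[]),(0,[],[]),(0,[],[]),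(0,[],[]),(0,[],[]),(0,[],[]),(0,[],[]),(6,[162,1154,1156,1158,1160,1162,1164,1166,1168,1170],[1135,1141,1139]),(2,[1154],[]),(2,[],[1133]),(4,[165,1154,1156,1158],[1133,1131,1129]),(4,[733,740,1118],[193,169,719,717]),(4,[1095,1106,160,1120,1141],[1111,1136]),(2,[1124],[]),(2,[1128],[]),(4,[1131,1186,1179],[1177,165,1175,1156]),(2,[1144],[]),(5,[1143,625,396,158,160,1120,1141,1153],[1191,1146,1148]),(2,[1162],[]),(2,[1166],[]),(2,[1170],[]),(0,[],[]),(0,[],[]),(4,[163,1120,1122,1124,1200,1202],[1175]),(0,[],[]),(0,[],[]),(0,[],[]),(0,[],[]),(0,[],[]),(5,[163,161,1092,1094,1206,1208,1210,1212,1214],[1175,1205]),(0,[],[]),(0,[],[]),(0,[],[]),(0,[],[]),(0,[],[]),(0,[],[]),(0,[],[]),(0,[],[]),(6,[164,1176,1218,1220,1222,1224,1226,1228,1230,1232],[1175,1205,1203]),(0,[],[]),(0,[],[]),(0,[],[]),(0,[],[]),(0,[],[]),(5,[165,163,1120,1122,1236,1238,1240,1242,1244],[1133,1131]),(4,[1123,1134,162,1154,1205],[1185,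1200]),(4,[1127,1184,1236,1238,1240],[1187,1247,1245]),(1,[1251],[]),(1,[1253,1244],[]),(1,[1253,1243],[]),(1,[1240,1256],[]),(1,[1259],[]),(1,[1261,1254],[]),(1,[1261,1241],[]),(5,[1127,1200,1202,1204,1156,1158,1178,1127,1184,1236],[1187,1247]),(1,[1267],[]),(1,[1269,1263],[]),(1,[1269,1246],[]),(6,[1179,1188],[1187,1273,1270,1265,1239,1237,1185,1200,1249,1217,1215]),(2,[1208],[]),(5,[1207,1095,1106,160,162,1154,1205,1217],[1277,1210,1212]),(2,[1220],[]),(2,[1224],[]),(2,[1228],[]),(2,[1232],[]),(0,[],[]),(0,[],[]),(4,[167,1176,1218,1220,1288,1290],[719]),(0,[],[]),(0,[],[]),(0,[],[]),(5,[167,165,1154,1156,1274,1214,1294,1296,1298],[719,1293]),(0,[],[]),(0,[],[]),(0,[],[]),(0,[],[]),(6,[168,192,194,658,669,596,1302,1304,1306,1308],[719,1293,1291]),(0,[],[]),(0,[],[]),(0,[],[]),(0,[],[]),(0,[],[]),(5,[169,167,1176,1218,1312,1314,1316,1318,1320],[259,733]),(4,[1293],[735,167,1133,1218,1281,1288]),(5,[1293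,1301],[735,167,165,1175,1156,1274,1279,1294,1296]),(2,[1304],[]),(2,[1308],[]),(2,[1314],[]),(5,[1313,1219,1132,166,168,192,733,1323],[1333,1316,1318]),(0,[],[]),(0,[],[]),(0,[],[]),(0,[],[]),(0,[],[]),(0,[],[]),(0,[],[]),(3,[194,196,1336,1338,1340,1342,1344,1346,1348],[733,1323]),(0,[],[]),(0,[],[]),(0,[],[]),(6,[1336,1352,1354,1356],[272,200,585,582,277,619,617,886,897]),(0,[],[]),(0,[],[]),(0,[],[]),(0,[],[]),(0,[],[]),(0,[],[]),(3,[686,1360,1362,1364,1366,1368,1370],[200,202,561,573]),(2,[1352],[]),(2,[1356],[]),(0,[],[]),(0,[],[]),(0,[],[]),(0,[],[]),(3,[208,800,877,482,1378,1380,1382,1384],[290,313,637]),(0,[],[]),(0,[],[]),(0,[],[]),(3,[212,583,542,1302,1388,1390,1392],[324,326,971,983]),(0,[],[]),(0,[],[]),(4,[279,190,698,984,1396,1398],[589]),(0,[],[]),(0,[],[]),(0,[],[]),(5,[279,178,186,122,720,722,1402,1404,1406],[589,1401]),(0,[],[]),(0,[],[]),(0,[],[]),(0,[],[]),(0,[],[]),(0,[],[]),(0,[],[]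),(0,[],[]),(0,[],[]),(6,[280,1410,1412,1414,1416,1418,1420,1422,1424,1426],[589,1401,1399]),(2,[1410],[]),(4,[283,1410,1412,1414],[351,349,347]),(4,[349,404,1433],[401,283,1431,1412]),(4,[1401],[575,279,177,698,1027,1396]),(5,[1401,1409],[575,279,178,189,122,720,737,1402,1404]),(2,[1418],[]),(2,[1426],[]),(0,[],[]),(0,[],[]),(4,[281,574,576,578,1444,1446],[1431]),(0,[],[]),(0,[],[]),(0,[],[]),(0,[],[]),(5,[281,279,190,698,700,1450,1452,1454,1456],[1431,1449]),(0,[],[]),(0,[],[]),(0,[],[]),(0,[],[]),(0,[],[]),(0,[],[]),(0,[],[]),(0,[],[]),(6,[282,400,1460,1462,1464,1466,1468,1470,1472,1474],[1431,1449,1447]),(0,[],[]),(0,[],[]),(0,[],[]),(0,[],[]),(0,[],[]),(5,[283,281,574,576,1478,1480,1482,1484,1486],[351,349]),(4,[285,400,1460,1462],[299,655,755]),(4,[655,784,1491],[317,285,351,1460]),(4,[345,402,460,462,464],[405,1489,1487]),(1,[1495],[]),(1,[1497,1486],[])]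

theorem ok2 : data.stepsOK st2 500 = true := by decide +kernel

def st3 : List Step := [(1,[1497,1485],[]),(1,[464,1500],[]),(1,[1503],[]),(1,[1505,1483],[]),(5,[345,414,416,418,372,374,454,491,520],[405,1489]),(4,[1489],[347,345,343,460,511,464]),(5,[349,1489,1510,465,1506],[401,283,281,589,576,1478]),(5,[439,522,524,526,474,476,556,581,606,1478],[505]),(4,[1515,1480],[441,439,437,562,603,566]),(1,[1516],[]),(1,[1519,1512],[]),(1,[1519,1481],[]),(1,[1519,1507],[]),(1,[569,1524],[]),(1,[1526],[]),(1,[1529,570],[]),(1,[511,1530],[]),(1,[1529,569],[]),(1,[1533],[]),(1,[1537,572],[]),(1,[1537,1373],[]),(1,[460,1540],[]),(1,[1543],[]),(1,[1545,1371],[]),(1,[340,1546],[]),(1,[1549],[]),(1,[1551,1369],[]),(1,[358,1552],[]),(1,[1555],[]),(1,[1557,1367],[]),(1,[368,1558],[]),(1,[1561],[]),(1,[1563,1365],[]),(1,[694,1564],[]),(1,[1567],[]),(1,[1569,1363],[]),(5,[1539,461,342,344,1433,1434,1413,1449],[559,581,14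44]),(2,[1450],[]),(5,[701,699,176,278,280,1410,1449,1459],[1575,1452,1454]),(2,[1466],[]),(0,[],[]),(0,[],[]),(0,[],[]),(0,[],[]),(5,[285,283,1410,1412,1580,1582,1584,1586],[299,655,653]),(0,[],[]),(0,[],[]),(0,[],[]),(5,[287,285,400,1460,1590,1592,1594],[293,313,637,635]),(5,[313,637,678,1597,1595],[315,287,285,351,1460,1590]),(2,[],[1589]),(2,[1582],[]),(0,[],[]),(5,[296,655,784,1491,1464,1466,1604],[393,337,309,307]),(4,[309,320,1607],[323,637,635,1597]),(4,[637,678,1597],[311,309,307,1607]),(0,[],[]),(4,[301,136,720,722,1402,1612],[319]),(5,[301,126,184,174,698,984,1396,1429,1442],[319,1615]),(0,[],[]),(0,[],[]),(0,[],[]),(0,[],[]),(0,[],[]),(0,[],[]),(0,[],[]),(6,[1048,1618,1620,1622,1624,1626,1628,1630],[319,1615,1613,1404,1439]),(4,[1615],[303,301,125,720,737,1402]),(2,[1618],[]),(2,[1622],[]),(0,[],[]),(4,[305,318,1048,1618,1640],[321,1067]),(0,[],[]),(0,[],[]),(5,[305,1615,1634,1403,724,726,164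4,1646],[321,1067,1065]),(0,[],[]),(0,[],[]),(0,[],[]),(0,[],[]),(0,[],[]),(0,[],[]),(6,[1607,1608,1595,1598,1650,1652,1654,1656,1658,1660],[321,1067,1643]),(4,[1067],[307,305,303,1048,1637,1640]),(5,[1067,1065],[307,305,1615,1613,1403,724,739,1644,1646]),(2,[1652],[]),(2,[1656],[]),(2,[1660],[]),(0,[],[]),(0,[],[]),(5,[309,1067,1664,1641,1620,1622,1674,1676],[323,637,1387]),(5,[637,1387],[311,309,1067,1643,1641,1620,1639,1674,1676]),(0,[],[]),(0,[],[]),(6,[460,462,1534,1520,1514,504,1682,1684],[403,414,495,431,429]),(2,[1684],[]),(0,[],[]),(0,[],[]),(0,[],[]),(0,[],[]),(0,[],[]),(0,[],[]),(3,[344,1433,1416,1690,1692,1694,1696,1698,1700],[414,451]),(0,[],[]),(0,[],[]),(0,[],[]),(0,[],[]),(6,[1433,1434,1580,1582,1704,1706,1708,1710],[405,1489,1499,466,513]),(2,[1710],[]),(0,[],[]),(0,[],[]),(0,[],[]),(0,[],[]),(3,[348,1460,1590,1650,1716,1718,1720,1722],[1489,1509,487]),(0,[],[]),(0,[],[]),(0,[],[]),(0,[]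,[]),(5,[389,1091,1108,1726,1728,1730,1732],[395,369,695,693]),(5,[369,695,712,1735,1733],[357,389,1091,1105,1726,1728]),(0,[],[]),(0,[],[]),(0,[],[]),(0,[],[]),(0,[],[]),(0,[],[]),(3,[624,1142,1738,1740,1742,1744,1746,1748],[362,364,1077]),(0,[],[]),(0,[],[]),(0,[],[]),(0,[],[]),(5,[364,1077,1080,1752,1754,1756,1758],[697,685,385,383]),(4,[1077,1080,1752],[399,695,693,1735]),(4,[385,410,1761],[413,1091,1105,1726]),(4,[1091,1108,1726],[387,385,383,1761]),(5,[685,385,410,1761,1759],[681,364,1077,1075,1752,1754]),(5,[691],[713,1570,1361,711,690,1735,1763,1753,1073,1071]),(3,[774,928,992,1068,1771,690,1735,1733],[957,958,941]),(4,[1073,1078,1771,710,687,273,1336,1352],[]),(1,[1774],[]),(1,[1777,1374],[]),(1,[1075,1778],[]),(1,[1777,1354],[]),(1,[1753,1782],[]),(1,[1781],[]),(1,[1787,1338],[]),(1,[1077,1788],[]),(1,[1787,1337],[]),(1,[1750,1792],[]),(1,[1784],[]),(1,[1797,1762],[]),(1,[1357,1798],[]),(1,[179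7,1754],[]),(1,[1797,1753],[]),(1,[1791],[]),(1,[1807,1340],[]),(1,[364,1808],[]),(1,[1794],[]),(1,[1813,1750],[]),(1,[1801],[]),(1,[1817,1733],[]),(1,[1359,1818],[]),(1,[1817,1734],[]),(1,[1811],[]),(1,[1825,1342],[]),(1,[362,1826],[]),(1,[1821],[]),(1,[1831,1736],[]),(1,[897,1832],[]),(1,[1831,1772],[]),(1,[811,1836],[]),(1,[1829],[]),(1,[1841,1344],[]),(1,[625,1842],[]),(1,[1835],[]),(1,[1847,1729],[]),(1,[1839],[]),(1,[1851,964],[]),(1,[899,1852],[]),(1,[1851,940],[]),(1,[799,1856],[]),(1,[1845],[]),(1,[1861,1346],[]),(1,[1143,1862],[]),(1,[1855],[]),(1,[1867,1058],[]),(1,[794,1868],[]),(1,[1867,937],[]),(1,[830,1872],[]),(1,[1859],[]),(1,[1877,942],[]),(1,[779,1878],[]),(1,[1877,959],[]),(1,[767,1882],[]),(1,[1865],[]),(1,[1887,1348],[]),(1,[1739,1888],[]),(1,[1871],[]),(1,[1893,1060],[]),(1,[749,1894],[]),(1,[1875],[]),(1,[1899,962],[]),(1,[901,1900],[]),(1,[1899,1029],[]),(1,[1881],[]),(1,[1907,94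4],[]),(1,[107,1908],[]),(1,[1885],[]),(1,[1913,956],[]),(1,[927,1914],[]),(1,[1890],[]),(1,[1919,1739],[]),(1,[1897],[]),(1,[1923,1062],[]),(1,[1903],[]),(1,[1927,933],[]),(1,[826,1928],[]),(1,[1911],[]),(1,[1933,922],[]),(1,[813,1934],[]),(1,[1916],[]),(1,[1939,927],[]),(1,[1931],[]),(1,[1943,960],[]),(1,[909,1944],[]),(1,[1943,966],[]),(1,[1056,1948],[]),(1,[1937],[]),(1,[1953,924],[]),(1,[815,1954],[]),(1,[1947],[]),(1,[1959,992],[]),(1,[1959,929],[]),(1,[1950],[]),(1,[1965,1056],[]),(1,[1965,1055],[]),(1,[990,1968],[]),(1,[1957],[]),(1,[1973,872],[]),(1,[1973,854],[]),(1,[947,1976],[]),(1,[1971],[]),(1,[1981,1053],[]),(1,[1978],[]),(1,[1985,947],[]),(5,[1417,1432,346,348,1460,1462,1490,753,788,1924,1064,1664],[]),(1,[1988],[]),(1,[1991,1642],[]),(1,[1419,1992],[]),(1,[1991,1641],[]),(1,[1691,1996],[])]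

theorem ok3 : data.stepsOK st3 750 = true := by decide +kernel

end

end T420
end HN
end H39
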